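import Mathlib

/-!
# S5719 (involution fixity): numerics of the cell `F₄(q)`, `q` odd (helper526)
-/

set_option autoImplicit false

namespace Cfsg.Agent.H526.IF

/-- fixity against the class of the short involution (`B₄`) : `f < q ^ 4` -/
theorem num_B4 {q f : ℕ} (hq : 2 ≤ q) (h : f ^ 5 < q ^ 8 * (q ^ 8 + q ^ 4 + 1)) : f < q ^ 4 := by
  by_contra hf
  push Not at hf
  have h1 : (q ^ 4) ^ 5 ≤ f ^ 5 := Nat.pow_le_pow_left hf 5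
  have h2 : 2 ^ 4 ≤ q ^ 4 := Nat.pow_le_pow_left hq 4
  have h3 : q ^ 8 = q ^ 4 * q ^ 4 := by ring
  have h4 : (q ^ 4) ^ 5 = q ^ 8 * (q ^ 8 * q ^ 4) := by ring
  have h5 : q ^ 8 * (q ^ 8 + q ^ 4 + 1) ≤ q ^ 8 * (q ^ 8 * q ^ 4) := by
    apply Nat.mul_le_mul_left
    rw [h3]
    nlinarith [Nat.mul_le_mul h2 h2, Nat.mul_le_mul (Nat.mul_le_mul h2 h2) h2]
  omega

/-- the non-strict form -/
theorem num_B4' {q f : ℕ} (hq : 2 ≤ q) (h : f ^ 5 ≤ q ^ 8 * (q ^ 8 + q ^ 4 + 1)) : f < q ^ 4 := by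
  by_contra hf
  push Not at hf
  have h1 : (q ^ 4) ^ 5 ≤ f ^ 5 := Nat.pow_le_pow_left hf 5
  have h2 : 2 ^ 4 ≤ q ^ 4 := Nat.pow_le_pow_left hq 4
  have h3 : q ^ 8 = q ^ 4 * q ^ 4 := by ring
  have h4 : (q ^ 4) ^ 5 = q ^ 8 * (q ^ 8 * q ^ 4) := by ring
  have h5 : q ^ 8 * (q ^ 8 + q ^ 4 + 1) < q ^ 8 * (q ^ 8 * q ^ 4) := by
    apply Nat.mul_lt_mul_of_pos_left _ (by positivity)
    rw [h3]
    nlinarith [Nat.mul_le_mul h2 h2, Nat.mul_le_mul (Nat.mul_le_mul h2 h2) h2]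
  omega

/-- fixity against the class of the long involution (`C₃A₁`) : `f < q ^ 6` -/
theorem num_C3 {q f : ℕ} (hq : 2 ≤ q)
    (h : f ^ 5 * (q ^ 2 - 1) ≤ q ^ 14 * (q ^ 4 + 1) * (q ^ 12 - 1)) : f < q ^ 6 := by
  by_contra hf
  push Not at hf
  have h1 : (q ^ 6) ^ 5 ≤ f ^ 5 := Nat.pow_le_pow_left hf 5
  have h2 : 4 ≤ q ^ 2 := by
    have := Nat.pow_le_pow_left hq 2
    omega
  have h3 : (q ^ 6) ^ 5 * (q ^ 2 - 1) ≤ f ^ 5 * (q ^ 2 - 1) := Nat.mul_le_mul_right _ h1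
  have h4 : (q ^ 6) ^ 5 * 3 ≤ (q ^ 6) ^ 5 * (q ^ 2 - 1) := Nat.mul_le_mul_left _ (by omega)
  have h5 : q ^ 14 * (q ^ 4 + 1) * (q ^ 12 - 1) ≤ q ^ 14 * (q ^ 4 + 1) * q ^ 12 :=
    Nat.mul_le_mul_left _ (Nat.sub_le _ _)
  have h6 : q ^ 14 * (q ^ 4 + 1) * q ^ 12 ≤ q ^ 14 * (q ^ 4 + q ^ 4) * q ^ 12 := by
    apply Nat.mul_le_mul_right
    apply Nat.mul_le_mul_left
    have : 1 ≤ q ^ 4 := Nat.one_le_pow _ _ (by omega)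
    omega
  have h7 : q ^ 14 * (q ^ 4 + q ^ 4) * q ^ 12 = (q ^ 6) ^ 5 * 2 := by ring
  have h8 : 0 < (q ^ 6) ^ 5 := by positivity
  omega

theorem num_C3_lt {q f : ℕ} (hq : 2 ≤ q)
    (h : f ^ 5 * (q ^ 2 - 1) < q ^ 14 * (q ^ 4 + 1) * (q ^ 12 - 1)) : f < q ^ 6 := num_C3 hq h.le

/-- the same, class sizes given by the order formula: `|M| = q ^ 14 (q ^ 4 + 1) (q ^ 12 - 1) / (q ^ 2 - 1)` -/
theorem num_C3' {q f M : ℕ} (hq : 2 ≤ q) (hM : M * (q ^ 2 - 1) = q ^ 14 * (q ^ 4 + 1) * (q ^ 12 - 1))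
    (h : f ^ 5 ≤ M) : f < q ^ 6 :=
  num_C3 hq (by rw [← hM]; exact Nat.mul_le_mul_right _ h)

end Cfsg.Agent.H526.IF
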